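import Cfsg.Agent.Omega.NO3S.OneQ.Alf

/-!
# NO-3S, `OneQ`, case (TR) `[W_Z, W_Y] ≤ V` (bb OMEGA #20607, #20975): the pure system over `Co`

* `Co.TR` : `[W_Z, W_Y] ≤ V`; `Co.rcz` : the representation of `C_G(Z)` on `MF`; `Co.vv c = rcz c v0`;
* `Co.Th w` : the functional of `sw w sw⁻¹` (`ag_Th : ag w m = m + Th w m • v0`); `Th_mul`, `Th_eq_zero` (`↔ w ∈ E_Z`);
* `Co.Ph` : the group of all `Th w`; `Co.Phi c`; `mem_Phi` : `φ ∈ Phi c` iff some `c (sw w sw⁻¹) c⁻¹` acts as `1 + φ ⊗ vv c`;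
* `Phi_self`, `Phi_norm`, `Phi_act`, `vv_span`.
-/

set_option autoImplicit false
set_option linter.unusedSectionVars false

namespace Cfsg.Agent.Omega.NO3S.OneQ

open Subgroup Cfsg.Agent.Omega.NO3S.PT Cfsg.Agent.Omega.NoFF.Basic
open scoped Pointwise

universe u

variable {G : Type u} [Group G]

namespace Co

variable [Finite G] {F : Type*} [Field F] [CharP F 2] {S : Sylow 2 G} {B P V Z : Subgroup G} (h : Co F S B P V Z)

/-- case (TR) -/
def TR : Prop := ∀ w ∈ ws V Z, ∀ u ∈ ws V h.Yp, w * u * w⁻¹ * u⁻¹ ∈ V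

/-- the representation of `C_G(Z)` -/
noncomputable abbrev rcz : Representation F (centralizer (Z : Set G)) h.MF := h.rp.comp (Subgroup.inclusion h.C_le_hat)

theorem rcz_apply (c : centralizer (Z : Set G)) : h.rcz c = h.rp ⟨c, h.C_le_hat c.2⟩ := rfl

theorem C_norm {c : G} (hc : c ∈ centralizer (Z : Set G)) : c ∈ normalizer (Z : Set G) := centralizer_le_normalizer _ hc

theorem rcz_fm (c : centralizer (Z : Set G)) (w : ws V Z) :
    h.rcz c (h.fm w) = h.fm ⟨c * w * (c : G)⁻¹, h.W_conj (C_norm c.2) w.2⟩ := h.rp_fm' (h.C_le_hat c.2) w.2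

theorem rcz_mul (c d : centralizer (Z : Set G)) (m : h.MF) : h.rcz (c * d) m = h.rcz c (h.rcz d m) := by
  rw [map_mul]; rfl

theorem rcz_one (m : h.MF) : h.rcz 1 m = m := by
  rw [map_one]; rfl

theorem rcz_inv_rc (c : centralizer (Z : Set G)) (m : h.MF) : h.rcz c⁻¹ (h.rcz c m) = m := by
  rw [← h.rcz_mul, inv_mul_cancel, h.rcz_one]

theorem rcz_rc_inv (c : centralizer (Z : Set G)) (m : h.MF) : h.rcz c (h.rcz c⁻¹ m) = m := by
  rw [← h.rcz_mul, mul_inv_cancel, h.rcz_one]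

/-- `K_Z` acts trivially -/
theorem rcz_K {k : centralizer (Z : Set G)} (hk : (k : G) ∈ kx V Z) (m : h.MF) : h.rcz k m = m := h.rp_K hk m

/-- the vector of the line `c` -/
noncomputable def vv (c : centralizer (Z : Set G)) : h.MF := h.rcz c h.v0

theorem vv_one : h.vv 1 = h.v0 := h.rcz_one _

theorem rcz_vv (c d : centralizer (Z : Set G)) : h.rcz c (h.vv d) = h.vv (c * d) := (h.rcz_mul c d _).symm

theorem vv_ne (c : centralizer (Z : Set G)) : h.vv c ≠ 0 := by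
  intro h1
  have h2 := h.rcz_inv_rc c h.v0
  rw [show h.rcz c h.v0 = 0 from h1, map_zero] at h2
  exact h.v0_ne h2.symm

/-- the lift of `a • vv c` in the line `c` -/
def lf (c : centralizer (Z : Set G)) (a : F) : ws V Z := ⟨c * h.e 0 a * (c : G)⁻¹, h.W_conj (C_norm c.2) (h.W_V 0 a)⟩

theorem fm_lf (c : centralizer (Z : Set G)) (a : F) : h.fm (h.lf c a) = a • h.vv c := by
  have h1 := h.rcz_fm c ⟨h.e 0 a, h.W_V 0 a⟩
  rw [h.fm_e, map_smul] at h1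
  exact h1.symm

theorem exists_dl : ∃ f : Module.Dual F h.MF, f h.v0 = 1 := by
  obtain ⟨f, hf⟩ : ∃ f : Module.Dual F h.MF, f h.v0 ≠ 0 := by
    by_contra hcon
    push Not at hcon
    exact h.v0_ne ((Module.forall_dual_apply_eq_zero_iff F _).1 hcon)
  exact ⟨(f h.v0)⁻¹ • f, by rw [LinearMap.smul_apply, smul_eq_mul, inv_mul_cancel₀ hf]⟩

/-- a functional with `dl v0 = 1` -/
noncomputable def dl : Module.Dual F h.MF := h.exists_dl.choose

theorem dl_v0 : h.dl h.v0 = 1 := h.exists_dl.choose_spec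

theorem smul_v0_inj {a b : F} (hab : a • h.v0 = b • h.v0) : a = b := by
  have := congrArg h.dl hab
  rwa [map_smul, map_smul, h.dl_v0, smul_eq_mul, smul_eq_mul, mul_one, mul_one] at this

theorem smul_vv_inj {c : centralizer (Z : Set G)} {a b : F} (hab : a • h.vv c = b • h.vv c) : a = b := by
  apply h.smul_v0_inj
  have := congrArg (h.rcz c⁻¹) hab
  rwa [map_smul, map_smul, vv, h.rcz_inv_rc] at this

/-- the functional of `sw w sw⁻¹` -/
noncomputable def Th (w : ws V Z) : Module.Dual F h.MF := h.dl ∘ₗ (h.ag w - 1)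

theorem Th_apply (w : ws V Z) (m : h.MF) : h.Th w m = h.dl (h.ag w m - m) := rfl

variable {h}

/-- an element of `W_Y` acts as a `λ`-transvection -/
theorem TR.sub (hT : h.TR) {u : G} (hu : u ∈ ws V h.Yp) (m : h.MF) :
    ∃ a : F, h.rp ⟨u, h.W_hat h.pY hu⟩ m - m = a • h.v0 := by
  obtain ⟨w, rfl⟩ := h.fm_surj m
  obtain ⟨v, hv, hv', e⟩ := h.rp_W h.pY h.Yp_ne hu w
  have h1 : v ∈ V := by
    have h2 := inv_mem (hT w w.2 u hu)
    have e2 : ((w : G) * u * (w : G)⁻¹ * u⁻¹)⁻¹ = v := by rw [hv']; group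
    rwa [e2] at h2
  obtain ⟨x, y, hxy⟩ := (h.mem_V v).1 h1
  refine ⟨y, ?_⟩
  rw [e, ← h.fm_e x y]
  congr 1
  exact Subtype.ext hxy.symm

theorem TR.ag_Th (hT : h.TR) (w : ws V Z) (m : h.MF) : h.ag w m = m + h.Th w m • h.v0 := by
  obtain ⟨a, ha⟩ := hT.sub (h.sw_W w.2) m
  have h1 : h.ag w m - m = a • h.v0 := ha
  rw [h.Th_apply, h1, map_smul, h.dl_v0, smul_eq_mul, mul_one, ← h1, add_sub_cancel]

variable (h)

theorem ag_v0 (w : ws V Z) : h.ag w h.v0 = h.v0 := by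
  have h1 := h.rp_W_I h.pY (h.sw_W w.2) (h.one.pl.V_le_IV (h.e_memV 0 1))
  exact h1

theorem Th_v0 (w : ws V Z) : h.Th w h.v0 = 0 := by
  rw [h.Th_apply, h.ag_v0, sub_self, map_zero]

variable {h}

theorem TR.Th_eq (hT : h.TR) {w : ws V Z} {f : Module.Dual F h.MF} (hf : ∀ m, h.ag w m = m + f m • h.v0) : h.Th w = f := by
  refine LinearMap.ext fun m => h.smul_v0_inj ?_
  have h1 := hf m
  rw [hT.ag_Th] at h1
  exact add_left_cancel h1

theorem TR.Th_mul (hT : h.TR) (w w' : ws V Z) : h.Th (w * w') = h.Th w + h.Th w' := by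
  refine hT.Th_eq fun m => ?_
  rw [h.ag_mul, Module.End.mul_apply, hT.ag_Th w, hT.ag_Th w', map_add, map_smul, h.Th_v0, smul_zero, add_zero,
    LinearMap.add_apply, add_smul]
  abel

theorem TR.Th_of_kx (hT : h.TR) {w : ws V Z} (hw : (w : G) ∈ ee V Z Z) : h.Th w = 0 := by
  refine LinearMap.ext fun m => ?_
  rw [h.Th_apply, h.ag_one_of hw, Module.End.one_apply, sub_self, map_zero]
  rfl

theorem TR.Th_eq_zero (hT : h.TR) {w : ws V Z} : h.Th w = 0 ↔ (w : G) ∈ ee V Z Z := by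
  refine ⟨fun h1 => ?_, fun hw => hT.Th_of_kx hw⟩
  have h2 : h.sw * w * h.sw⁻¹ ∈ ee V Z h.Yp := by
    rw [h.one.ee_eq h.pY h.one.self h.Yp_ne.symm]
    refine ⟨h.sw_W w.2, mem_kx.2 ⟨(mem_centralizer_iff.1 (h.one.W_le_C h.pY (h.sw_W w.2)) · · |>.symm), fun v hv => ?_⟩⟩
    obtain ⟨u, hu, hu', e⟩ := h.rp_W h.pY h.Yp_ne (h.sw_W w.2) ⟨v, hv⟩
    have h3 : h.rp ⟨h.sw * w * h.sw⁻¹, h.W_hat h.pY (h.sw_W w.2)⟩ (h.fm ⟨v, hv⟩) = h.fm ⟨v, hv⟩ := by
      have := hT.ag_Th w (h.fm ⟨v, hv⟩)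
      rw [h1, LinearMap.zero_apply, zero_smul, add_zero] at this
      exact this
    rw [h3, sub_self] at e
    rw [← hu']
    exact h.rd_inf_I ⟨(h.fm_eq_zero _).1 e.symm, hu⟩
  exact h.sw_ee.1 h2

theorem TR.Th_Z (hT : h.TR) {w : ws V Z} (hw : (w : G) ∈ Z) : h.Th w = 0 :=
  hT.Th_of_kx (h.one.dd_le_ee h.one.self (h.one.X_le_dd h.one.self hw))

theorem TR.Th_one (hT : h.TR) : h.Th 1 = 0 := hT.Th_Z (one_mem _)

theorem TR.Th_inv (hT : h.TR) (w : ws V Z) : h.Th w⁻¹ = h.Th w := by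
  have _ := hT
  congr 1
  exact Subtype.ext (h.one.inv_eq_W h.one.self w.2)

/-- `Th` does not see `Z` -/
theorem TR.Th_congr (hT : h.TR) {w w' : ws V Z} (hw : (w : G) * (w' : G)⁻¹ ∈ Z) : h.Th w = h.Th w' := by
  have h1 := hT.Th_mul (w * w'⁻¹) w'
  rw [inv_mul_cancel_right, hT.Th_Z (w := w * w'⁻¹) hw, zero_add] at h1
  exact h1

/-- `Th` does not see `E_Z` -/
theorem TR.Th_congr' (hT : h.TR) {w w' : ws V Z} (hw : (w : G) * (w' : G)⁻¹ ∈ ee V Z Z) : h.Th w = h.Th w' := by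
  have h1 := hT.Th_mul (w * w'⁻¹) w'
  rw [inv_mul_cancel_right, hT.Th_of_kx (w := w * w'⁻¹) hw, zero_add] at h1
  exact h1

/-- the group of the functionals `Th w` -/
noncomputable def TR.Ph (hT : h.TR) : AddSubgroup (Module.Dual F h.MF) where
  carrier := {φ | ∃ w, h.Th w = φ}
  zero_mem' := ⟨1, hT.Th_one⟩
  add_mem' := by
    rintro _ _ ⟨w, rfl⟩ ⟨w', rfl⟩
    exact ⟨w * w', hT.Th_mul w w'⟩
  neg_mem' := by
    rintro _ ⟨w, rfl⟩
    refine ⟨w⁻¹, ?_⟩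
    rw [eq_neg_iff_add_eq_zero, ← hT.Th_mul, inv_mul_cancel, hT.Th_one]

theorem TR.mem_Ph (hT : h.TR) {φ : Module.Dual F h.MF} : φ ∈ hT.Ph ↔ ∃ w, h.Th w = φ := Iff.rfl

/-- `Φ_c` -/
noncomputable def TR.Phi (hT : h.TR) (c : centralizer (Z : Set G)) : AddSubgroup (Module.Dual F h.MF) :=
  hT.Ph.comap ((h.rcz c).dualMap : Module.Dual F h.MF →+ Module.Dual F h.MF)

theorem TR.mem_Phi' (hT : h.TR) {c : centralizer (Z : Set G)} {φ : Module.Dual F h.MF} :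
    φ ∈ hT.Phi c ↔ ∃ w, h.Th w = φ ∘ₗ h.rcz c := Iff.rfl

/-- `φ ∈ Φ_c` iff some `c (sw w sw⁻¹) c⁻¹` acts as `1 + φ ⊗ v_c` -/
theorem TR.mem_Phi (hT : h.TR) {c : centralizer (Z : Set G)} {φ : Module.Dual F h.MF} :
    φ ∈ hT.Phi c ↔ ∃ w, ∀ m, h.rcz c (h.ag w (h.rcz c⁻¹ m)) = m + φ m • h.vv c := by
  rw [hT.mem_Phi']
  refine exists_congr fun w => ⟨fun hw m => ?_, fun hw => LinearMap.ext fun m => ?_⟩
  · rw [hT.ag_Th, hw, map_add, h.rcz_rc_inv, map_smul, LinearMap.comp_apply, h.rcz_rc_inv]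
    rfl
  · have h1 := hw (h.rcz c m)
    rw [h.rcz_inv_rc, hT.ag_Th, map_add, map_smul] at h1
    exact h.smul_vv_inj (add_left_cancel h1)

theorem TR.Phi_one (hT : h.TR) : hT.Phi 1 = hT.Ph := by
  ext φ
  rw [hT.mem_Phi', hT.mem_Ph]
  have e : φ ∘ₗ h.rcz 1 = φ := LinearMap.ext fun m => by rw [LinearMap.comp_apply, h.rcz_one]
  rw [e]

/-- (self) -/
theorem TR.Phi_self (hT : h.TR) {c : centralizer (Z : Set G)} {φ : Module.Dual F h.MF} (hφ : φ ∈ hT.Phi c) :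
    φ (h.vv c) = 0 := by
  obtain ⟨w, hw⟩ := hT.mem_Phi'.1 hφ
  have h1 := LinearMap.congr_fun hw h.v0
  rw [h.Th_v0, LinearMap.comp_apply] at h1
  exact h1.symm

theorem TR.Phi_mul (hT : h.TR) {a c : centralizer (Z : Set G)} {φ : Module.Dual F h.MF} :
    φ ∈ hT.Phi (a * c) ↔ φ ∘ₗ h.rcz a ∈ hT.Phi c := by
  rw [hT.mem_Phi', hT.mem_Phi']
  have e : φ ∘ₗ h.rcz (a * c) = (φ ∘ₗ h.rcz a) ∘ₗ h.rcz c := LinearMap.ext fun m => by
    rw [LinearMap.comp_apply, h.rcz_mul]; rfl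
  rw [e]

/-- the elements acting as `1 + φ ⊗ v_c` -/
theorem TR.exists_act (hT : h.TR) {c : centralizer (Z : Set G)} {φ : Module.Dual F h.MF} (hφ : φ ∈ hT.Phi c) :
    ∃ (u : G) (hu : u ∈ ws V h.Yp) (a : centralizer (Z : Set G)), (a : G) = c * u * (c : G)⁻¹ ∧
      (∀ m, h.rcz a m = m + φ m • h.vv c) := by
  obtain ⟨w, hw⟩ := hT.mem_Phi.1 hφ
  have hu := h.sw_W w.2
  have huC := h.one.W_le_C h.pY hu
  refine ⟨_, hu, c * ⟨_, huC⟩ * c⁻¹, rfl, fun m => ?_⟩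
  rw [h.rcz_mul, h.rcz_mul]
  exact hw m

/-- (act) -/
theorem TR.Phi_act (hT : h.TR) {j : centralizer (Z : Set G)} {ψ : Module.Dual F h.MF} (hψ : ψ ∈ hT.Phi j)
    (i : centralizer (Z : Set G)) : ∃ i', h.vv i' = h.vv i + ψ (h.vv i) • h.vv j ∧
      ∀ φ, φ ∈ hT.Phi i' ↔ φ + φ (h.vv j) • ψ ∈ hT.Phi i := by
  obtain ⟨u, hu, a, hau, ha⟩ := hT.exists_act hψ
  refine ⟨a * i, ?_, fun φ => ?_⟩
  · rw [← h.rcz_vv, ha]
  · rw [hT.Phi_mul]
    have e : φ ∘ₗ h.rcz a = φ + φ (h.vv j) • ψ := LinearMap.ext fun m => by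
      rw [LinearMap.comp_apply, ha, map_add, map_smul, LinearMap.add_apply, LinearMap.smul_apply, smul_eq_mul,
        smul_eq_mul, mul_comm]
    rw [e]

variable (h)

/-- (span) -/
theorem vv_span (m : h.MF) : m ∈ Submodule.span F (Set.range h.vv) := by
  let D : Subgroup G :=
    { carrier := {w | ∃ hw : w ∈ ws V Z, h.fm ⟨w, hw⟩ ∈ Submodule.span F (Set.range h.vv)}
      one_mem' := ⟨one_mem _, by
        have : h.fm ⟨1, one_mem _⟩ = 0 := h.fm_one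
        rw [this]; exact zero_mem _⟩
      mul_mem' := by
        rintro a b ⟨ha, ha'⟩ ⟨hb, hb'⟩
        refine ⟨mul_mem ha hb, ?_⟩
        have : h.fm ⟨a * b, mul_mem ha hb⟩ = h.fm ⟨a, ha⟩ + h.fm ⟨b, hb⟩ := h.fm_mul ⟨a, ha⟩ ⟨b, hb⟩
        rw [this]
        exact add_mem ha' hb'
      inv_mem' := by
        rintro a ⟨ha, ha'⟩
        refine ⟨inv_mem ha, ?_⟩
        have : h.fm ⟨a⁻¹, inv_mem ha⟩ = h.fm ⟨a, ha⟩ := h.fm_inv ⟨a, ha⟩
        rw [this]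
        exact ha' }
  have hV : V ≤ D := by
    intro v hv
    obtain ⟨x, y, rfl⟩ := (h.mem_V v).1 hv
    refine ⟨h.W_V x y, ?_⟩
    rw [h.fm_e]
    exact Submodule.smul_mem _ _ (Submodule.subset_span ⟨1, h.vv_one⟩)
  have hC : centralizer (Z : Set G) ≤ normalizer (D : Set G) := by
    have key : ∀ g ∈ centralizer (Z : Set G), ∀ x ∈ D, g * x * g⁻¹ ∈ D := by
      rintro g hg x ⟨hx, hx'⟩
      refine ⟨h.W_conj (C_norm hg) hx, ?_⟩
      have e := h.rcz_fm ⟨g, hg⟩ ⟨x, hx⟩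
      have e2 : h.fm ⟨g * x * g⁻¹, h.W_conj (C_norm hg) hx⟩ = h.rcz ⟨g, hg⟩ (h.fm ⟨x, hx⟩) := e.symm
      rw [e2]
      have h1 : Submodule.span F (Set.range h.vv) ≤ (Submodule.span F (Set.range h.vv)).comap (h.rcz ⟨g, hg⟩) := by
        rw [Submodule.span_le]
        rintro _ ⟨c, rfl⟩
        show h.rcz ⟨g, hg⟩ (h.vv c) ∈ Submodule.span F (Set.range h.vv)
        rw [h.rcz_vv]
        exact Submodule.subset_span ⟨_, rfl⟩
      exact h1 hx'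
    intro g hg
    rw [mem_normalizer_iff]
    intro x
    refine ⟨key g hg x, fun hx => ?_⟩
    have h1 := key g⁻¹ (inv_mem hg) _ hx
    have e : g⁻¹ * (g * x * g⁻¹) * g⁻¹⁻¹ = x := by group
    rwa [e] at h1
  obtain ⟨w, rfl⟩ := h.fm_surj m
  obtain ⟨_, hw⟩ := h.W_le_of_V hV hC w.2
  exact hw

theorem vv_sep {φ : Module.Dual F h.MF} (hφ : ∀ i, φ (h.vv i) = 0) : φ = 0 := by
  refine LinearMap.ext fun m => ?_
  refine Submodule.span_induction (p := fun m _ => φ m = (0 : Module.Dual F h.MF) m) ?_ (by simp) ?_ ?_ (h.vv_span m)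
  · rintro _ ⟨i, rfl⟩
    exact hφ i
  · intro x y _ _ hx hy
    rw [map_add, hx, hy]; simp
  · intro a x _ hx
    rw [map_smul, hx]; simp

end Co

end Cfsg.Agent.Omega.NO3S.OneQ
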