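import Cfsg.Agent.Omega.NO3S.OneQ.MixT
import Cfsg.Agent.Omega.NO3S.OneQ.TRp.Line

/-!
# NO-3S OneSz, `q ≥ 4`, `n = 1`, case (TR) (bb OMEGA #20607): the instance of `TRp.Sys` over `Co`

* `TR` : `[W_Z, W_Y] ≤ V`;
* `Co.vl c = rz c v0`, `Co.Fl c` (`c ∈ C_G(Z)`) : the vector and the functionals of the line `cj c V`;
* `Co.card_le` : `q ≤ |A|`; **`Co.sys`** : `TRp.Sys F h.vl h.Fl`.
-/

set_option autoImplicit false
set_option linter.unusedSectionVars false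

namespace Cfsg.Agent.Omega.NO3S.OneQ

open Subgroup Cfsg.Agent.Omega.NO3S.PT Cfsg.Agent.Omega.NoFF.Basic
open scoped Pointwise

universe u

namespace Mix

variable {F M C : Type*} [Field F] [AddCommGroup M] [Module F M] [Group C] {r : Representation F C M} {v0 : M}
    {A st : Subgroup C} (H : Mix r v0 A st)
include H

theorem neg_dual (φ : M →ₗ[F] F) : -φ = φ := by
  refine LinearMap.ext fun m => ?_
  rw [LinearMap.neg_apply]
  have h5 : (φ m + φ m) • v0 = 0 := by rw [add_smul, H.two]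
  exact neg_eq_of_add_eq_zero_left ((smul_eq_zero.1 h5).resolve_right H.v0_ne)

/-- `norm` at the base line -/
theorem norm1 {j : C} {φ ψ : M →ₗ[F] F} (hψ : ψ ∈ Ph r v0 A j) (h0 : ψ v0 = 0) (hφ : φ ∈ Ph r v0 A 1) :
    φ (r j v0) • ψ ∈ Ph r v0 A 1 := by
  set x := φ (r j v0) with hxd
  have hψc := H.ph_v hψ
  obtain ⟨b, hb, hbe⟩ := hψ
  have hbst : j * b * j⁻¹ ∈ st := by
    refine H.tv_st j b hb ?_
    rw [hbe, h0, zero_smul, add_zero]
  set g := j * b * j⁻¹ with hg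
  have hgi : ∀ m, r g⁻¹ m = m - ψ m • r j v0 := by
    intro m
    have h1 : r g (m - ψ m • r j v0) = m := by
      rw [hbe, map_sub, map_smul, hψc, smul_zero, sub_zero, sub_add_cancel]
    rw [← r_inv_apply' r g (m - ψ m • r j v0), h1]
  have hg0 : r g v0 = v0 := by rw [hbe, h0, zero_smul, add_zero]
  obtain ⟨a, ha, hae⟩ := hφ
  obtain ⟨a', ha', e⟩ := H.st_A g hbst a ha
  have ea : 1 * a * 1⁻¹ = a := by group
  rw [ea] at hae
  have h2 : φ + x • ψ ∈ Ph r v0 A 1 := by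
    refine ⟨a', ha', fun m => ?_⟩
    have ea' : 1 * a' * 1⁻¹ = a' := by group
    have e3 : φ (m - ψ m • r j v0) = (φ + x • ψ) m := by
      rw [map_sub, map_smul, ← hxd, LinearMap.add_apply, LinearMap.smul_apply, smul_eq_mul, smul_eq_mul]
      have h4 : ∀ y : F, -y = y := fun y => by
        have h5 : (y + y) • v0 = 0 := by rw [add_smul, H.two]
        exact neg_eq_of_add_eq_zero_left ((smul_eq_zero.1 h5).resolve_right H.v0_ne)
      rw [sub_eq_add_neg, h4, mul_comm]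
    rw [ea', ← e, r_mul, r_mul, hae, map_add, map_smul, r_inv_apply, map_one, Module.End.one_apply, hg0, hgi, e3]
  have h3 := H.ph_add ⟨a, ha, fun m => by rw [ea]; exact hae m⟩ h2
  have h4 : φ + (φ + x • ψ) = x • ψ := by
    rw [← add_assoc]
    have h5 : φ + φ = 0 := by
      have := H.neg_dual φ
      rw [neg_eq_iff_add_eq_zero] at this
      exact this
    rw [h5, zero_add]
  rwa [h4] at h3

theorem norm' {i j : C} {φ ψ : M →ₗ[F] F} (hψ : ψ ∈ Ph r v0 A j) (h0 : ψ (r i v0) = 0) (hφ : φ ∈ Ph r v0 A i) :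
    φ (r j v0) • ψ ∈ Ph r v0 A i := by
  have h1 := ph_conj i⁻¹ hφ
  have h2 := ph_conj i⁻¹ hψ
  rw [inv_mul_cancel, inv_inv] at h1
  rw [inv_inv] at h2
  have h3 := H.norm1 h2 (by rw [LinearMap.comp_apply]; exact h0) h1
  rw [LinearMap.comp_apply, ← r_mul, mul_inv_cancel_left] at h3
  have h4 := ph_conj i h3
  rw [mul_one] at h4
  have e : (φ (r j v0) • (ψ ∘ₗ r i)) ∘ₗ r i⁻¹ = φ (r j v0) • ψ := by
    refine LinearMap.ext fun m => ?_
    rw [LinearMap.comp_apply, LinearMap.smul_apply, LinearMap.comp_apply, r_inv_apply, LinearMap.smul_apply]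
  rwa [e] at h4

theorem zero_ph (c : C) : (0 : M →ₗ[F] F) ∈ Ph r v0 A c := by
  refine ⟨1, one_mem _, fun m => ?_⟩
  rw [mul_one, mul_inv_cancel, map_one, Module.End.one_apply, LinearMap.zero_apply, zero_smul, add_zero]

theorem add_ph {c : C} {φ ψ : M →ₗ[F] F} (hφ : φ ∈ Ph r v0 A c) (hψ : ψ ∈ Ph r v0 A c) : φ + ψ ∈ Ph r v0 A c := by
  have h1 := ph_conj c⁻¹ hφ
  have h2 := ph_conj c⁻¹ hψ
  rw [inv_mul_cancel, inv_inv] at h1 h2
  have h4 := ph_conj c (H.ph_add h1 h2)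
  rw [mul_one] at h4
  have e : (φ ∘ₗ r c + ψ ∘ₗ r c) ∘ₗ r c⁻¹ = φ + ψ := by
    refine LinearMap.ext fun m => ?_
    rw [LinearMap.comp_apply, LinearMap.add_apply, LinearMap.comp_apply, LinearMap.comp_apply, r_inv_apply,
      LinearMap.add_apply]
  rwa [e] at h4

/-- the functionals of the line `c` as a group -/
def Pg (c : C) : AddSubgroup (Module.Dual F M) where
  carrier := Ph r v0 A c
  zero_mem' := H.zero_ph c
  add_mem' := H.add_ph
  neg_mem' := by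
    intro φ hφ
    have : -φ = φ := H.neg_dual φ
    rw [this]
    exact hφ

theorem mem_Pg {c : C} {φ : Module.Dual F M} : φ ∈ H.Pg c ↔ φ ∈ Ph r v0 A c := Iff.rfl

theorem card_Pg (i j : C) : Nat.card (H.Pg i) = Nat.card (H.Pg j) := by
  have key : ∀ i j : C, ∀ φ ∈ H.Pg i, (φ ∘ₗ r (j * i⁻¹)⁻¹ : Module.Dual F M) ∈ H.Pg j := by
    intro i j φ hφ
    have := ph_conj (j * i⁻¹) hφ
    rwa [inv_mul_cancel_right] at this
  refine Nat.card_congr ⟨fun φ => ⟨_, key i j φ φ.2⟩, fun φ => ⟨_, key j i φ φ.2⟩, fun φ => ?_, fun φ => ?_⟩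
  · apply Subtype.ext
    refine LinearMap.ext fun m => ?_
    show (φ : Module.Dual F M) (r (j * i⁻¹)⁻¹ (r (i * j⁻¹)⁻¹ m)) = (φ : Module.Dual F M) m
    rw [← r_mul]
    have e : (j * i⁻¹)⁻¹ * (i * j⁻¹)⁻¹ = 1 := by group
    rw [e, map_one, Module.End.one_apply]
  · apply Subtype.ext
    refine LinearMap.ext fun m => ?_
    show (φ : Module.Dual F M) (r (i * j⁻¹)⁻¹ (r (j * i⁻¹)⁻¹ m)) = (φ : Module.Dual F M) m
    rw [← r_mul]
    have e : (i * j⁻¹)⁻¹ * (j * i⁻¹)⁻¹ = 1 := by group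
    rw [e, map_one, Module.End.one_apply]

/-- the instance, except `big` -/
theorem sys (hbig : Nat.card F ≤ Nat.card (H.Pg 1)) : TRp.Sys F (fun c => r c v0) H.Pg where
  self := fun hφ => H.ph_v hφ
  norm := fun hψ h0 hφ => H.norm' hψ h0 hφ
  act := by
    rintro j ψ hψ i
    have hψ' : ψ ∈ Ph r v0 A j := hψ
    obtain ⟨b, hb, hbe⟩ := hψ'
    refine ⟨j * b * j⁻¹ * i, ?_, fun φ => ?_⟩
    · show r (j * b * j⁻¹ * i) v0 = _
      rw [r_mul, hbe]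
    · have e : φ + φ (r j v0) • ψ = φ ∘ₗ r (j * b * j⁻¹) := by
        refine LinearMap.ext fun m => ?_
        rw [LinearMap.comp_apply, hbe, map_add, map_smul, LinearMap.add_apply, LinearMap.smul_apply, smul_eq_mul,
          smul_eq_mul, mul_comm]
      show φ ∈ Ph r v0 A (j * b * j⁻¹ * i) ↔ φ + φ (r j v0) • ψ ∈ Ph r v0 A i
      rw [e]
      constructor
      · intro h1
        have h2 := ph_conj (j * b * j⁻¹)⁻¹ h1
        rwa [inv_inv, inv_mul_cancel_left] at h2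
      · intro h1
        have h2 := ph_conj (j * b * j⁻¹) h1
        have e2 : (φ ∘ₗ r (j * b * j⁻¹)) ∘ₗ r (j * b * j⁻¹)⁻¹ = φ := by
          refine LinearMap.ext fun m => ?_
          rw [LinearMap.comp_apply, LinearMap.comp_apply, r_inv_apply]
        rwa [e2] at h2
  card := H.card_Pg
  big := fun i => hbig.trans (H.card_Pg 1 i).le
  span := by
    intro φ hφ
    exact LinearMap.ext_on_range (v := fun c => r c v0) H.span hφ

end Mix

variable {G : Type u} [Group G]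

/-- case (TR) -/
def TR (V Z : Subgroup G) : Prop := ∀ Y, Pnt V Z Y → Y ≠ Z → ∀ w ∈ ws V Z, ∀ u ∈ ws V Y, w * u * w⁻¹ * u⁻¹ ∈ V

namespace Co

variable [Finite G] {F : Type*} [Field F] [CharP F 2] {S : Sylow 2 G} {B P V Z : Subgroup G} (h : Co F S B P V Z)

/-- an element of `W_Yp` trivial on `MF` lies in `K_Z` -/
theorem kx_of_triv {a : G} (ha : a ∈ ws V h.Yp) (he : ∀ m, h.rz ⟨a, h.one.W_le_C h.pY ha⟩ m = m) : a ∈ kx V Z := by
  have haC := h.one.W_le_C h.pY ha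
  rw [mem_kx]
  refine ⟨fun z hz => (mem_centralizer_iff.1 haC z hz).symm, fun w hw => ?_⟩
  have h1 := h.one.comm_mem h.pY h.one.self h.Yp_ne ha hw
  obtain ⟨hx, e⟩ := h.rz_comm haC hw
  rw [he, sub_self] at e
  exact h.rd_inf_I ⟨(h.fm_eq_zero _).1 e, h1⟩

/-- the `F`-space spanned by `Ē` is proper -/
theorem span_ee_ne : Submodule.span F {m | ∃ w : ws V Z, (w : G) ∈ ee V Z Z ∧ h.fm w = m} ≠ ⊤ := by
  intro htop
  -- `[E_Yp, W_Z] = 1`
  have h1 : ∀ e ∈ ee V Z h.Yp, ∀ w ∈ ws V Z, e * w = w * e := by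
    intro e he w hw
    have hek : e ∈ kx V Z := (mem_ee.1 he).2 Z h.one.self h.Yp_ne.symm
    have h2 : ∀ m ∈ Submodule.span F {m | ∃ w : ws V Z, (w : G) ∈ ee V Z Z ∧ h.fm w = m},
        (m : kx V Z → F) ⟨e, hek⟩ = 0 := by
      intro m hm
      induction hm using Submodule.span_induction with
      | mem x hx =>
        obtain ⟨w, hw, rfl⟩ := hx
        rw [h.fm_apply]
        exact (h.fn_eq_zero w.2 hek).2 (h.one.ee_comm h.one.self h.pY h.Yp_ne.symm hw he).symm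
      | zero => rfl
      | add x y _ _ hx hy =>
        show (x : kx V Z → F) ⟨e, hek⟩ + (y : kx V Z → F) ⟨e, hek⟩ = 0
        rw [hx, hy, add_zero]
      | smul t x _ hx =>
        show t * (x : kx V Z → F) ⟨e, hek⟩ = 0
        rw [hx, mul_zero]
    have h3 := h2 (h.fm ⟨w, hw⟩) (by rw [htop]; trivial)
    rw [h.fm_apply] at h3
    exact (h.fn_eq_zero hw hek).1 h3
  -- `[E_Z, W_Yp] = 1`
  have h2 : ∀ e ∈ ee V Z Z, ∀ u ∈ ws V h.Yp, e * u = u * e := by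
    intro e he u hu
    have h3 := h1 _ (h.sw_ee.2 he) _ (h.sw_W' hu)
    have h4 : h.sw⁻¹ * (h.sw * e * h.sw⁻¹ * (h.sw * u * h.sw⁻¹)) * h.sw =
        h.sw⁻¹ * (h.sw * u * h.sw⁻¹ * (h.sw * e * h.sw⁻¹)) * h.sw := by rw [h3]
    have e1 : h.sw⁻¹ * (h.sw * e * h.sw⁻¹ * (h.sw * u * h.sw⁻¹)) * h.sw = e * u := by group
    have e2 : h.sw⁻¹ * (h.sw * u * h.sw⁻¹ * (h.sw * e * h.sw⁻¹)) * h.sw = u * e := by group
    rwa [e1, e2] at h4
  apply h.one.ee_ne h.pY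
  rw [h.one.ee_eq h.pY h.one.self h.Yp_ne.symm]
  refine le_antisymm inf_le_left fun a ha => ⟨ha, h.kx_of_triv ha ?_⟩
  have h3 : ∀ m ∈ Submodule.span F {m | ∃ w : ws V Z, (w : G) ∈ ee V Z Z ∧ h.fm w = m},
      h.rz ⟨a, h.one.W_le_C h.pY ha⟩ m = m := by
    intro m hm
    induction hm using Submodule.span_induction with
    | mem x hx =>
      obtain ⟨w, hw, rfl⟩ := hx
      have e : h.rz ⟨a, h.one.W_le_C h.pY ha⟩ (h.fm w) = _ := h.rz_fm (h.one.W_le_C h.pY ha) w.2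
      rw [e]
      congr 1
      apply Subtype.ext
      show a * w * a⁻¹ = w
      rw [← h2 w hw a ha, mul_inv_cancel_right]
    | zero => rw [map_zero]
    | add x y _ _ hx hy => rw [map_add, hx, hy]
    | smul t x _ hx => rw [map_smul, hx]
  intro m
  exact h3 m (by rw [htop]; trivial)

/-- (TR) : elements of `A` are transvections -/
theorem exists_ph (hTR : TR V Z) {a : G} (ha : a ∈ ws V h.Yp) :
    ∃ φ : h.MF →ₗ[F] F, ∀ m, h.rz ⟨a, h.one.W_le_C h.pY ha⟩ m = m + φ m • h.v0 := by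
  have haC := h.one.W_le_C h.pY ha
  have hlam : ∀ m, h.rz ⟨a, haC⟩ m - m ∈ h.lam := by
    intro m
    obtain ⟨w, rfl⟩ := h.fm_surj m
    obtain ⟨v, hv, hv', e⟩ := h.rp_W h.pY h.Yp_ne ha w
    have e1 : h.rz ⟨a, haC⟩ (h.fm w) - h.fm w = _ := e
    rw [e1, h.fm_mem_lam_I hv, hv']
    have h1 := inv_mem (hTR _ h.pY h.Yp_ne w w.2 a ha)
    have e2 : ((w : G) * a * (w : G)⁻¹ * a⁻¹)⁻¹ = a * w * a⁻¹ * (w : G)⁻¹ := by group
    rwa [e2] at h1
  obtain ⟨f, hf⟩ : ∃ f : h.MF →ₗ[F] F, f h.v0 = 1 := by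
    obtain ⟨g, hg⟩ : ∃ g : Module.Dual F h.MF, g h.v0 ≠ 0 := by
      by_contra hc
      push Not at hc
      exact h.v0_ne ((Module.forall_dual_apply_eq_zero_iff F h.v0).1 hc)
    exact ⟨(g h.v0)⁻¹ • g, by rw [LinearMap.smul_apply, smul_eq_mul, inv_mul_cancel₀ hg]⟩
  refine ⟨f ∘ₗ (h.rz ⟨a, haC⟩ - 1), fun m => ?_⟩
  have h1 := hlam m
  rw [lam, Submodule.mem_span_singleton] at h1
  obtain ⟨t, ht⟩ := h1
  have h2 : (f ∘ₗ (h.rz ⟨a, haC⟩ - 1)) m = t := by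
    rw [LinearMap.comp_apply, LinearMap.sub_apply, Module.End.one_apply, ← ht, map_smul, hf, smul_eq_mul, mul_one]
  rw [h2, ht]; abel

/-- `q ≤ |A|` -/
theorem card_le (hTR : TR V Z) : Nat.card F ≤ Nat.card (h.mix.Pg 1) := by
  have hFin := h.finF
  have hMfin : Finite h.MF := Finite.of_surjective h.fm h.fm_surj
  have hDfin : Finite (Module.Dual F h.MF) := DFunLike.finite _
  -- a functional which vanishes on `Ē`
  obtain ⟨f, hf0, hfe⟩ : ∃ f : h.MF →ₗ[F] F, f ≠ 0 ∧ ∀ w : ws V Z, (w : G) ∈ ee V Z Z → f (h.fm w) = 0 := by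
    obtain ⟨m, hm⟩ : ∃ m, m ∉ Submodule.span F {m | ∃ w : ws V Z, (w : G) ∈ ee V Z Z ∧ h.fm w = m} := by
      by_contra hc
      push Not at hc
      exact h.span_ee_ne (eq_top_iff.2 fun m _ => hc m)
    obtain ⟨f, hfm, hfN⟩ := Submodule.exists_le_ker_of_notMem hm
    refine ⟨f, fun e => hfm (by rw [e, LinearMap.zero_apply]), fun w hw => ?_⟩
    exact LinearMap.mem_ker.1 (hfN (Submodule.subset_span ⟨w, hw, rfl⟩))
  have hex : ∀ φ : h.mix.Pg 1, ∃ u, ∃ hu : u ∈ ws V h.Yp,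
      ∀ m, h.rz ⟨u, h.one.W_le_C h.pY hu⟩ m = m + (φ : Module.Dual F h.MF) m • h.v0 := by
    rintro ⟨φ, ⟨⟨u, huC⟩, hu, hue⟩⟩
    refine ⟨u, h.mem_AC.1 hu, fun m => ?_⟩
    have h1 := hue m
    have e : (1 : centralizer (Z : Set G)) * ⟨u, huC⟩ * 1⁻¹ = ⟨u, huC⟩ := by group
    rw [e, map_one, Module.End.one_apply] at h1
    exact h1
  choose uu huu hue using hex
  let g : h.mix.Pg 1 → F := fun φ => f (h.fm ⟨_, h.sw_inv_W (huu φ)⟩)
  refine Nat.card_le_card_of_surjective g fun t => ?_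
  obtain ⟨m₀, hm₀⟩ : ∃ m, f m ≠ 0 := by
    by_contra hc
    push Not at hc
    exact hf0 (LinearMap.ext hc)
  obtain ⟨w, hw⟩ := h.fm_surj ((t * (f m₀)⁻¹) • m₀)
  have hft : f (h.fm w) = t := by
    rw [hw, map_smul, smul_eq_mul, mul_assoc, inv_mul_cancel₀ hm₀, mul_one]
  obtain ⟨φ, hφ⟩ := h.exists_ph hTR (h.sw_W w.2)
  have hφm : φ ∈ h.mix.Pg 1 := by
    refine ⟨⟨_, h.one.W_le_C h.pY (h.sw_W w.2)⟩, h.mem_AC.2 (h.sw_W w.2), fun m => ?_⟩
    have e : (1 : centralizer (Z : Set G)) * ⟨h.sw * w * h.sw⁻¹, h.one.W_le_C h.pY (h.sw_W w.2)⟩ * 1⁻¹ =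
      ⟨h.sw * w * h.sw⁻¹, h.one.W_le_C h.pY (h.sw_W w.2)⟩ := by group
    rw [e, map_one, Module.End.one_apply]
    exact hφ m
  refine ⟨⟨φ, hφm⟩, ?_⟩
  show f (h.fm ⟨_, h.sw_inv_W (huu ⟨φ, hφm⟩)⟩) = t
  rw [← hft]
  -- the difference lies in `E_Z`
  set u := uu ⟨φ, hφm⟩ with hu
  have huW : u ∈ ws V h.Yp := huu ⟨φ, hφm⟩
  have hsW := h.sw_W w.2
  have hD : u * (h.sw * w * h.sw⁻¹)⁻¹ ∈ ee V Z h.Yp := by
    rw [h.one.ee_eq h.pY h.one.self h.Yp_ne.symm]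
    have h3 : u * (h.sw * w * h.sw⁻¹)⁻¹ ∈ ws V h.Yp := mul_mem huW (inv_mem hsW)
    refine ⟨h3, h.kx_of_triv h3 fun m => ?_⟩
    have e : (⟨u * (h.sw * w * h.sw⁻¹)⁻¹, h.one.W_le_C h.pY h3⟩ : centralizer (Z : Set G)) =
        ⟨u, h.one.W_le_C h.pY huW⟩ * ⟨h.sw * w * h.sw⁻¹, h.one.W_le_C h.pY hsW⟩⁻¹ := rfl
    have h4 : ∀ m, h.rz ⟨u, h.one.W_le_C h.pY huW⟩ m = h.rz ⟨h.sw * w * h.sw⁻¹, h.one.W_le_C h.pY hsW⟩ m := by
      intro m
      rw [hφ]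
      exact hue ⟨φ, hφm⟩ m
    rw [e, Mix.r_mul, h4, Mix.r_inv_apply]
  have hE := (h.sw_ee (w := h.sw⁻¹ * u * h.sw * (w : G)⁻¹)).1 (by
    have e : h.sw * (h.sw⁻¹ * u * h.sw * (w : G)⁻¹) * h.sw⁻¹ = u * (h.sw * w * h.sw⁻¹)⁻¹ := by group
    rw [e]
    exact hD)
  have h5 := hfe (⟨_, h.sw_inv_W huW⟩ * w⁻¹) hE
  rw [h.fm_mul, h.fm_inv, map_add] at h5
  have h6 : f (h.fm ⟨_, h.sw_inv_W huW⟩) = -f (h.fm w) := eq_neg_of_add_eq_zero_left h5
  rw [CharTwo.neg_eq] at h6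
  exact h6

/-- **the instance of `TRp.Sys`** -/
theorem sys (hTR : TR V Z) : TRp.Sys F (fun c => h.rz c h.v0) h.mix.Pg := h.mix.sys (h.card_le hTR)

end Co

end Cfsg.Agent.Omega.NO3S.OneQ
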