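import Cfsg.Agent.Omega.NO3S.OneQ.TRi.Tw
import Cfsg.Agent.Omega.NO3S.OneQ.TRi.SysI

/-!
# NO-3S, `OneQ`, case (TR) (bb OMEGA #20607, #21235): the instances of `TRp.Tw`, `TRp.Lft` over `Co`

* `Co.TR.of` : `OneQ.TR V Z → h.TR`; `TR.mem_Pg_Th`, `TR.Pg_eq : h.mix.Pg = hT.Phi`;
* `TR.WW` : the group of the pairs `(fm w, Th w)`; `TR.tw`, `TR.lftI`;
* **`Co.tr_inj : TRp.Inj (fun c => h.rz c h.v0) h.mix.Pg`** (`2 < |F|`);
* **`Co.tr_delta`** : `f ∈ Pg 1`, `f ≠ 0` ⟹ `∃ δ : F ≃+ F, ∀ w, Th w = δ (f (fm w)) • f`.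
-/

set_option autoImplicit false
set_option linter.unusedSectionVars false

namespace Cfsg.Agent.Omega.NO3S.OneQ

open Subgroup Cfsg.Agent.Omega.NO3S.PT Cfsg.Agent.Omega.NoFF.Basic
open scoped Pointwise

universe u

variable {G : Type u} [Group G]

namespace Co

variable [Finite G] {F : Type*} [Field F] [CharP F 2] {S : Sylow 2 G} {B P V Z : Subgroup G} (h : Co F S B P V Z)

theorem TR.of (hTR : OneQ.TR V Z) : h.TR := fun w hw u hu => hTR _ h.pY h.Yp_ne w hw u hu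

variable {h}

/-- the two definitions of `Φ` agree -/
theorem TR.mem_Pg (hT : h.TR) {c : centralizer (Z : Set G)} {φ : Module.Dual F h.MF} :
    φ ∈ h.mix.Pg c ↔ φ ∈ hT.Phi c := by
  rw [hT.mem_Phi, Mix.mem_Pg]
  constructor
  · rintro ⟨⟨a, haC⟩, ha, hae⟩
    have haW := h.mem_AC.1 ha
    refine ⟨⟨_, h.sw_inv_W haW⟩, fun m => ?_⟩
    have h1 := hae m
    rw [Mix.r_mul, Mix.r_mul] at h1
    have e : h.ag ⟨_, h.sw_inv_W haW⟩ = h.rp ⟨a, h.C_le_hat haC⟩ := by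
      rw [ag]
      congr 1
      apply Subtype.ext
      show h.sw * (h.sw⁻¹ * a * h.sw) * h.sw⁻¹ = a
      group
    rw [e]
    exact h1
  · rintro ⟨w, hw⟩
    have hu := h.sw_W w.2
    refine ⟨⟨_, h.one.W_le_C h.pY hu⟩, h.mem_AC.2 hu, fun m => ?_⟩
    rw [Mix.r_mul, Mix.r_mul]
    exact hw m

theorem TR.Pg_eq (hT : h.TR) : h.mix.Pg = hT.Phi := funext fun _ => AddSubgroup.ext fun _ => hT.mem_Pg

theorem TR.mem_Pg_Th (hT : h.TR) {c : centralizer (Z : Set G)} {φ : Module.Dual F h.MF} :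
    φ ∈ h.mix.Pg c ↔ ∃ w, h.Th w = φ ∘ₗ h.rz c := hT.mem_Pg.trans hT.mem_Phi'

/-- the pairs `(fm w, Th w)` -/
noncomputable def TR.WW (hT : h.TR) : AddSubgroup (h.MF × Module.Dual F h.MF) where
  carrier := {p | ∃ w : ws V Z, (h.fm w, h.Th w) = p}
  zero_mem' := ⟨1, by rw [h.fm_one, hT.Th_one]; rfl⟩
  add_mem' := by
    rintro _ _ ⟨w, rfl⟩ ⟨w', rfl⟩
    exact ⟨w * w', by rw [h.fm_mul, hT.Th_mul]; rfl⟩
  neg_mem' := by
    rintro _ ⟨w, rfl⟩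
    refine ⟨w, ?_⟩
    rw [eq_neg_iff_add_eq_zero]
    show (h.fm w + h.fm w, h.Th w + h.Th w) = (0, 0)
    rw [h.add_self, TRp.add_self_dual]

noncomputable def TR.pi (hT : h.TR) : hT.WW →+ h.MF := (AddMonoidHom.fst _ _).comp hT.WW.subtype

noncomputable def TR.th (hT : h.TR) : hT.WW →+ Module.Dual F h.MF := (AddMonoidHom.snd _ _).comp hT.WW.subtype

/-- the element of `WW` given by `w` -/
noncomputable def TR.wm (hT : h.TR) (w : ws V Z) : hT.WW := ⟨(h.fm w, h.Th w), w, rfl⟩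

theorem TR.pi_wm (hT : h.TR) (w : ws V Z) : hT.pi (hT.wm w) = h.fm w := rfl

theorem TR.th_wm (hT : h.TR) (w : ws V Z) : hT.th (hT.wm w) = h.Th w := rfl

theorem TR.wm_surj (hT : h.TR) (p : hT.WW) : ∃ w, hT.wm w = p := by
  obtain ⟨p, w, hw⟩ := p
  exact ⟨w, Subtype.ext hw⟩

theorem TR.wm_mul (hT : h.TR) (w w' : ws V Z) : hT.wm (w * w') = hT.wm w + hT.wm w' :=
  Subtype.ext (Prod.ext (h.fm_mul w w') (hT.Th_mul w w'))

theorem TR.th_mem (hT : h.TR) (p : hT.WW) : hT.th p ∈ hT.Phi 1 := by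
  obtain ⟨w, rfl⟩ := hT.wm_surj p
  rw [hT.Phi_one]
  exact ⟨w, rfl⟩

theorem TR.pi_surj (hT : h.TR) : Function.Surjective hT.pi := fun m => by
  obtain ⟨w, rfl⟩ := h.fm_surj m
  exact ⟨hT.wm w, rfl⟩

theorem TR.th_surj (hT : h.TR) {φ : Module.Dual F h.MF} (hφ : φ ∈ hT.Phi 1) : ∃ p, hT.th p = φ := by
  rw [hT.Phi_one] at hφ
  obtain ⟨w, rfl⟩ := hφ
  exact ⟨hT.wm w, rfl⟩

theorem lf_add (j : centralizer (Z : Set G)) (c c' : F) : h.lf j (c + c') = h.lf j c * h.lf j c' := by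
  apply Subtype.ext
  show (j : G) * h.e 0 (c + c') * (j : G)⁻¹ = (j * h.e 0 c * (j : G)⁻¹) * (j * h.e 0 c' * (j : G)⁻¹)
  have e : h.e 0 (c + c') = h.e 0 c * h.e 0 c' := by rw [← h.e_add, add_zero]
  rw [e]; group

theorem TR.Th_lf_add (hT : h.TR) (j : centralizer (Z : Set G)) (c c' : F) :
    h.Th (h.lf j (c + c')) = h.Th (h.lf j c) + h.Th (h.lf j c') := by rw [lf_add, hT.Th_mul]

theorem TR.inv' (hT : h.TR) {j : centralizer (Z : Set G)} {ψ : Module.Dual F h.MF} (hψ : ψ ∈ hT.Phi j)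
    (h0 : ψ (h.vv 1) = 0) (p : hT.WW) : h.Th (h.lf j (ψ (hT.pi p))) = hT.th p (h.vv j) • ψ := by
  obtain ⟨w, rfl⟩ := hT.wm_surj p
  rw [h.vv_one] at h0
  exact hT.inv hψ h0 w

/-- **the instance of `TRp.Tw`** -/
theorem TR.tw (hT : h.TR) {τ : G} {s : F} (hτ : h.Tor τ s) (hs : s ≠ 0) (hs1 : s ≠ 1) :
    TRp.Tw F h.vv hT.Phi 1 hT.pi hT.th (fun j c => h.Th (h.lf j c)) s (h.rp ⟨τ, hτ.hat hs⟩) where
  pi_surj := hT.pi_surj
  Θ_mem := hT.th_mem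
  Θ_surj := fun _ => hT.th_surj
  γ_add := hT.Th_lf_add
  inv := fun hψ h0 w => hT.inv' hψ h0 w
  r_ne := hs
  r_ne_one := hs1
  T_surj := fun m => ⟨h.rp ⟨τ⁻¹, inv_mem (hτ.hat hs)⟩ m, congrArg (fun f => f m) (h.hat_mul_inv (hτ.hat hs))⟩
  tor := by
    intro φ hφ
    rw [hT.Phi_one] at hφ ⊢
    exact hT.tor hτ hs hφ
  tor_b := by
    intro j ψ φ hψ h0 hφ m
    rw [hT.Phi_one] at hφ
    rw [h.vv_one] at h0
    exact hT.tor_b hτ hs hψ h0 hφ m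
  tor_γ := by
    intro j ψ hψ h0 m
    rw [h.vv_one] at h0
    exact hT.tor_γ hτ hs hψ h0 m

/-- (act) for the lifts -/
theorem TR.act_lf (hT : h.TR) {j : centralizer (Z : Set G)} {ψ : Module.Dual F h.MF} (hψ : ψ ∈ hT.Phi j)
    (i : centralizer (Z : Set G)) : ∃ i', h.vv i' = h.vv i + ψ (h.vv i) • h.vv j ∧
      (∀ φ, φ ∈ hT.Phi i' ↔ φ + φ (h.vv j) • ψ ∈ hT.Phi i) ∧
      ∀ c, h.Th (h.lf i' c) = h.Th (h.lf i c) + h.Th (h.lf j (c * ψ (h.vv i))) := by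
  obtain ⟨u, hu, a, hau, ha⟩ := hT.exists_act hψ
  refine ⟨a * i, ?_, fun φ => ?_, fun c => ?_⟩
  · rw [← h.rcz_vv, ha]
  · rw [hT.Phi_mul]
    have e : φ ∘ₗ h.rcz a = φ + φ (h.vv j) • ψ := LinearMap.ext fun m => by
      rw [LinearMap.comp_apply, ha, map_add, map_smul, LinearMap.add_apply, LinearMap.smul_apply, smul_eq_mul,
        smul_eq_mul, mul_comm]
    rw [e]
  · have e : h.lf (a * i) c = h.wj (C_norm a.2) (h.lf i c) := by
      apply Subtype.ext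
      show ((a : G) * i) * h.e 0 c * ((a : G) * i)⁻¹ = a * (i * h.e 0 c * (i : G)⁻¹) * (a : G)⁻¹
      group
    rw [e, hT.Th_act hu hau ha, h.fm_lf, map_smul, smul_eq_mul, add_comm]

/-- `W_Z` is generated by `Z` and the lifts -/
theorem TR.gen (hT : h.TR) (p : hT.WW) :
    p ∈ AddSubgroup.closure ({x | ∃ j c, x = hT.wm (h.lf j c)} ∪ {x | hT.pi x = 0 ∧ hT.th x = 0}) := by
  set K := AddSubgroup.closure ({x | ∃ j c, x = hT.wm (h.lf j c)} ∪ {x | hT.pi x = 0 ∧ hT.th x = 0}) with hK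
  let D : Subgroup G :=
    { carrier := {w | ∃ hw : w ∈ ws V Z, hT.wm ⟨w, hw⟩ ∈ K}
      one_mem' := ⟨one_mem _, by
        refine AddSubgroup.subset_closure (Or.inr ⟨?_, ?_⟩)
        · exact h.fm_one
        · exact hT.Th_one⟩
      mul_mem' := by
        rintro a b ⟨ha, ha'⟩ ⟨hb, hb'⟩
        refine ⟨mul_mem ha hb, ?_⟩
        have e := hT.wm_mul ⟨a, ha⟩ ⟨b, hb⟩
        have e2 : hT.wm ⟨a * b, mul_mem ha hb⟩ = hT.wm ⟨a, ha⟩ + hT.wm ⟨b, hb⟩ := e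
        rw [e2]
        exact add_mem ha' hb'
      inv_mem' := by
        rintro a ⟨ha, ha'⟩
        refine ⟨inv_mem ha, ?_⟩
        have e : hT.wm ⟨a⁻¹, inv_mem ha⟩ = hT.wm ⟨a, ha⟩ := by
          congr 1
          exact Subtype.ext (h.one.inv_eq_W h.one.self ha)
        rw [e]
        exact ha' }
  obtain ⟨w, rfl⟩ := hT.wm_surj p
  have hD : ws V Z ≤ D := by
    refine ws_le fun L hL hZL => ?_
    obtain ⟨c, hc, rfl⟩ := h.line_eq hL hZL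
    intro x hx
    rw [mem_cj] at hx
    obtain ⟨a, b, hab⟩ := (h.mem_V _).1 hx
    have hx1 : x = c * h.e a 0 * c⁻¹ * (c * h.e 0 b * c⁻¹) := by
      have e1 : h.e a b = h.e a 0 * h.e 0 b := by rw [← h.e_add, add_zero, zero_add]
      have e2 : x = c * (c⁻¹ * x * c) * c⁻¹ := by group
      rw [e2, ← hab, e1]; group
    have hz : c * h.e a 0 * c⁻¹ = h.e a 0 := by
      rw [(mem_centralizer_iff.1 hc _ (h.e_memZ a)).symm, mul_inv_cancel_right]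
    rw [hx1, hz]
    refine mul_mem (s := D) ⟨h.W_V a 0, ?_⟩ ⟨(h.lf ⟨c, hc⟩ b).2, ?_⟩
    · refine AddSubgroup.subset_closure (Or.inr ⟨?_, ?_⟩)
      · exact (h.fm_eq_zero ⟨h.e a 0, h.W_V a 0⟩).2 (h.Z_le_rd (h.e_memZ a))
      · exact hT.Th_Z (w := ⟨h.e a 0, h.W_V a 0⟩) (h.e_memZ a)
    · exact AddSubgroup.subset_closure (Or.inl ⟨⟨c, hc⟩, b, rfl⟩)
  obtain ⟨_, hw⟩ := hD w.2
  exact hw

/-- **the instance of `TRp.Lft`** -/
theorem TR.lftI (hT : h.TR) : TRp.Lft F h.vv hT.Phi 1 hT.pi hT.th (fun j c => hT.wm (h.lf j c)) where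
  pi_surj := hT.pi_surj
  Θ_mem := hT.th_mem
  Θ_surj := fun _ => hT.th_surj
  ℓ_pi := fun j c => h.fm_lf j c
  ℓ_add := hT.Th_lf_add
  inv := fun hψ h0 w => hT.inv' hψ h0 w
  act := fun hψ i => hT.act_lf hψ i
  gen := hT.gen

theorem TR.sysI (hT : h.TR) (hTR : OneQ.TR V Z) : TRp.Sys F h.vv hT.Phi := by
  have h1 := h.sys hTR
  rw [hT.Pg_eq] at h1
  exact h1

theorem TR.hyp_conj (hT : h.TR) {g i j : centralizer (Z : Set G)} (hh : TRp.Hyp h.vv hT.Phi i j) :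
    TRp.Hyp h.vv hT.Phi (g * i) (g * j) := by
  obtain ⟨φ, hφ, hne⟩ := hh
  refine ⟨φ ∘ₗ h.rcz g⁻¹, ?_, ?_⟩
  · rw [hT.Phi_mul]
    have e : (φ ∘ₗ h.rcz g⁻¹) ∘ₗ h.rcz g = φ := LinearMap.ext fun m => by
      rw [LinearMap.comp_apply, LinearMap.comp_apply, h.rcz_inv_rc]
    rw [e]
    exact hφ
  · rw [LinearMap.comp_apply, h.rcz_vv, inv_mul_cancel_left]
    exact hne

variable (h)

/-- **no type 2, at every line** -/
theorem tr_inj' (hTR : OneQ.TR V Z) (hF : 2 < Nat.card F) : TRp.Inj h.vv (TR.of h hTR).Phi := by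
  set hT := TR.of h hTR with hTd
  have hFin := h.finF
  have hMfin : Finite h.MF := Finite.of_surjective h.fm h.fm_surj
  have S := hT.sysI hTR
  obtain ⟨s, hs0, hs1⟩ : ∃ s : F, s ≠ 0 ∧ s ≠ 1 := by
    by_contra hcon
    push Not at hcon
    have hsurj : Function.Surjective (fun b : Bool => if b then (1 : F) else 0) := by
      intro s
      by_cases h0 : s = 0
      · exact ⟨false, by simp [h0]⟩
      · exact ⟨true, by simp [hcon s h0]⟩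
    have h1 := Nat.card_le_card_of_surjective _ hsurj
    rw [Nat.card_eq_fintype_card (α := Bool), Fintype.card_bool] at h1
    omega
  obtain ⟨τ, hτ⟩ := h.exists_tor hs0
  intro i j hij φ hφ h0
  have h1 : TRp.Hyp h.vv hT.Phi (j⁻¹ * i) 1 := by
    have := hT.hyp_conj (g := j⁻¹) hij
    rwa [inv_mul_cancel] at this
  have h2 := S.symm h1
  have h3 : φ ∘ₗ h.rcz j ∈ hT.Phi (j⁻¹ * i) := by
    rw [hT.Phi_mul]
    have e : (φ ∘ₗ h.rcz j) ∘ₗ h.rcz j⁻¹ = φ := LinearMap.ext fun m => by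
      rw [LinearMap.comp_apply, LinearMap.comp_apply, h.rcz_rc_inv]
    rw [e]
    exact hφ
  have h4 := S.no_two (hT.tw hτ hs0 hs1) h2 h1 h3 (by
    rw [LinearMap.comp_apply, h.rcz_vv, mul_one]
    exact h0)
  refine LinearMap.ext fun m => ?_
  have h5 := LinearMap.congr_fun h4 (h.rcz j⁻¹ m)
  rw [LinearMap.comp_apply, h.rcz_rc_inv] at h5
  exact h5

/-- **no type 2, at every line** -/
theorem tr_inj (hTR : OneQ.TR V Z) (hF : 2 < Nat.card F) : TRp.Inj (fun c => h.rz c h.v0) h.mix.Pg := by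
  rw [(TR.of h hTR).Pg_eq]
  exact fun {i j} => h.tr_inj' hTR hF

/-- **`Th w = δ(f(fm w)) f`** -/
theorem tr_delta (hTR : OneQ.TR V Z) (hF : 2 < Nat.card F) {f : Module.Dual F h.MF} (hf : f ∈ h.mix.Pg 1) (h0 : f ≠ 0) :
    ∃ δ : F ≃+ F, ∀ w : ws V Z, h.Th w = δ (f (h.fm w)) • f := by
  have hFin := h.finF
  have hMfin : Finite h.MF := Finite.of_surjective h.fm h.fm_surj
  set hT := TR.of h hTR with hTd
  have hf' : f ∈ hT.Phi 1 := hT.mem_Pg.1 hf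
  obtain ⟨δ, hδ⟩ := TRp.Lft.delta (hT.sysI hTR) (h.tr_inj' hTR hF) hT.lftI hf' h0
  exact ⟨δ, fun w => hδ (hT.wm w)⟩

end Co

end Cfsg.Agent.Omega.NO3S.OneQ
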